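import Mathlib
import Cfsg.Agent.Lib.Helper8.PG.Defs
import Cfsg.Agent.Lib.Helper40.PSpRP
import Cfsg.Agent.Lib.Helper79.OCls.InvForm

/-!
PG (S2474) package [BLK] (helper11): if `η(k) ≤ m` there is a block of dimension at most `2 m`
with an isometry of order `r`.
-/

set_option autoImplicit false

namespace Cfsg.Agent.Lib.Helper11.PG

open Matrix Polynomial Cfsg.Agent.Lib.Helper8.PG Cfsg.Agent.Lib.Helper40.DualPoly
  Cfsg.Agent.Lib.Helper40.SpExist Cfsg.Agent.Lib.Helper40.PrimeOrderGL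
  Cfsg.Agent.Lib.Helper40.PSpRP Cfsg.Agent.Lib.Helper40.SympWall
  Cfsg.Agent.Lib.Helper40.GUPrimeOrder

universe u

/-- The data used by [BLK], [SPA], ...: a symplectic matrix of order `r` with characteristic
polynomial `chi S a' 0` of degree `2 η(k)`, without the eigenvalue `1`. -/
theorem exists_sp_block {F : Type u} [Field F] [Fintype F] (p : ℕ) [Fact p.Prime]
    [CharP F p] (r k ηk : ℕ) (hr : r.Prime) (hr2 : r ≠ 2) (hrp : r ≠ p)
    (hk : k = orderOf ((Fintype.card F : ℕ) : ZMod r)) (hη : Eta k ηk) :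
    1 ≤ ηk ∧ (r : F) ≠ 0 ∧ ∃ S₀ : Matrix.symplecticGroup (Fin ηk) F,
      S₀.1 ^ r = 1 ∧ S₀.1 ≠ 1 ∧ S₀.1.charpoly.eval 1 ≠ 0 ∧
        ∃ N : ℕ, 0 < N ∧ N.Coprime p ∧ S₀ ^ N = 1 := by
  classical
  obtain ⟨S, dg, hS, hSne, hrF, hk0, hdg, hdd, hfix⟩ := exists_sp_data p r k hr hr2 hrp hk
  obtain ⟨π₀', hπ₀mem⟩ := hSne
  obtain ⟨π₀, hπ₀⟩ : ∃ π₀ : S, π₀ = ⟨π₀', hπ₀mem⟩ := ⟨_, rfl⟩
  obtain ⟨a', ha'def⟩ : ∃ a' : S → ℕ, a' = fun π => if π = π₀ ∨ π = dg π₀ then 1 else 0 :=
    ⟨_, rfl⟩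
  have ha'inv : ∀ π, a' (dg π) = a' π := by
    intro π
    have e : (dg π = π₀ ∨ dg π = dg π₀) ↔ (π = π₀ ∨ π = dg π₀) := by
      constructor
      · rintro (h | h)
        · right; rw [← h, hdd]
        · left
          have := congrArg dg h
          rwa [hdd, hdd] at this
      · rintro (h | h)
        · right; rw [h]
        · left; rw [h, hdd]
    rw [ha'def]
    simp only [e]
  have hsum : k * ∑ π, a' π = 2 * ηk := by
    rcases hη with ⟨hodd, hη⟩ | ⟨heven, hη⟩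
    · have hne : dg π₀ ≠ π₀ := by
        intro h
        have := (hfix π₀).mp h
        exact (Nat.not_even_iff_odd.mpr hodd) this
      have h2 : ∑ π, a' π = 2 := by
        have h3 : ∀ π : S, a' π = (if π = π₀ then 1 else 0) + (if π = dg π₀ then 1 else 0) := by
          intro π
          rw [ha'def]
          show (if π = π₀ ∨ π = dg π₀ then 1 else 0) = _
          by_cases h1 : π = π₀
          · rw [h1]
            simp [Ne.symm hne]
          · by_cases h2 : π = dg π₀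
            · rw [h2]
              simp [hne]
            · simp [h1, h2]
        rw [Finset.sum_congr rfl (fun π _ => h3 π), Finset.sum_add_distrib, Finset.sum_ite_eq',
          Finset.sum_ite_eq']
        simp
      rw [h2, hη, mul_comm]
    · have hfixed : dg π₀ = π₀ := (hfix _).mpr heven
      have h1 : ∑ π, a' π = 1 := by
        rw [ha'def]
        simp only [hfixed, or_self]
        rw [Finset.sum_ite_eq']
        simp
      rw [h1, mul_one, hη]
  have hη1 : 1 ≤ ηk := by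
    have h1 : 0 < k * ∑ π, a' π := by
      apply Nat.mul_pos hk0
      apply Finset.sum_pos'
      · intro π _; exact Nat.zero_le _
      · refine ⟨π₀, Finset.mem_univ _, ?_⟩
        rw [ha'def]
        simp
    omega
  have hG := good_chi p hS hr hr2 dg hdg a' ha'inv 0 ηk (by rw [zero_add, hsum])
  obtain ⟨m₀, hdeg₀, S₀, hc₀, N, hN, hNp, hpow⟩ := sp_of_good hG
  have hm₀ : m₀ = ηk := by
    rw [natDegree_chi hS, zero_add, hsum] at hdeg₀
    omega
  subst hm₀
  have hpow' : S₀.1 ^ N = 1 := by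
    have h1 := congrArg Subtype.val hpow
    rw [SubmonoidClass.coe_pow] at h1
    exact h1
  have hr1 : S₀.1 ^ r = 1 := pow_eq_one_of_charpoly_dvd' S₀.1 N
    (Cfsg.Agent.Lib.Helper40.natCast_ne_zero_of_coprime p N hNp) hpow' r _
    (hc₀ ▸ chi_dvd hS a' _)
  have hev : S₀.1.charpoly.eval 1 ≠ 0 := by
    rw [hc₀]
    unfold chi
    rw [pow_zero, one_mul, eval_prod]
    apply Finset.prod_ne_zero_iff.mpr
    intro π _
    rw [eval_pow]
    exact pow_ne_zero _ (eval_one_ne hS π.1 π.2)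
  refine ⟨hη1, hrF, S₀, hr1, ?_, hev, N, hN, hNp, hpow⟩
  intro h
  apply hev
  rw [h, Matrix.charpoly_one, eval_pow, eval_sub, eval_X, eval_one, sub_self,
    zero_pow]
  rw [Fintype.card_sum, Fintype.card_fin]
  omega

/-- [BLK] -/
theorem pkgBlk : PkgBlk.{u} := by
  intro F _ _ hodd p _ _ r k ηk m hr hr2 hrp hk hη hle
  classical
  obtain ⟨hη1, hrF, S₀, hr1, hne, hev, -⟩ := exists_sp_block p r k ηk hr hr2 hrp hk hη
  obtain ⟨Q, hQ, hinv⟩ := Cfsg.Agent.Lib.Helper79.OCls.pkgInvForm S₀.1 r (hr.odd_of_ne_two hr2)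
    hrF hr1 (dual_charpoly_sp S₀) hev
  refine ⟨2 * ηk, by omega, Fin ηk ⊕ Fin ηk, inferInstance, inferInstance, Q, S₀.1, ?_, hQ,
    hinv, ?_⟩
  · rw [Fintype.card_sum, Fintype.card_fin]
    omega
  · intro j
    haveI : Fact r.Prime := ⟨hr⟩
    have ho : orderOf S₀.1 = r := orderOf_eq_prime hr1 hne
    show S₀.1 ^ j = 1 ↔ r ∣ j
    rw [← ho, orderOf_dvd_iff_pow_eq_one]

end Cfsg.Agent.Lib.Helper11.PG
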