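import Mathlib
import Cfsg.Agent.Lib.Helper8.PG.Defs
import Cfsg.Agent.Lib.Helper40.PSpRP

/-!
PG (S2474) package [SPINVNEC] (helper11): `S ^ (2 s) = 1`, `S ^ 2 ≠ ± 1`, `S ^ s ≠ ± 1` in
`Sp_{2n}(q)` forces `η(k) ≤ n - 1`.
-/

set_option autoImplicit false

namespace Cfsg.Agent.Lib.Helper11.PG

open Matrix Polynomial Cfsg.Agent.Lib.Helper8.PG Cfsg.Agent.Lib.Helper40.DualPoly
  Cfsg.Agent.Lib.Helper40.SpExist Cfsg.Agent.Lib.Helper40.PrimeOrderGL
  Cfsg.Agent.Lib.Helper40.PSpRP Cfsg.Agent.Lib.Helper40.SympWall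
  Cfsg.Agent.Lib.Helper40.GUPrimeOrder

universe u

section algebra

variable {F : Type*} [Field F] {ι : Type*} [Fintype ι] [DecidableEq ι]

/-- The idempotents `(1 ± z) / 2` of an involution `z`. -/
theorem idem_of_invol (z : Matrix ι ι F) (hzz : z * z = 1) (c : F) (hc : c * 2 = 1) :
    (c • (1 + z)) * (c • (1 + z)) = c • (1 + z) ∧ (c • (1 - z)) * (c • (1 - z)) = c • (1 - z) ∧
      (c • (1 + z)) * (c • (1 - z)) = 0 ∧ (c • (1 - z)) * (c • (1 + z)) = 0 ∧
      c • (1 + z) + c • (1 - z) = 1 := by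
  have hcc : c * c * 2 = c := by rw [mul_assoc, hc, mul_one]
  have h1 : (1 + z) * (1 + z) = (2 : F) • (1 + z) := by
    rw [two_smul]
    calc (1 + z) * (1 + z) = 1 + z + z + z * z := by noncomm_ring
      _ = (1 + z) + (1 + z) := by rw [hzz]; abel
  have h2 : (1 - z) * (1 - z) = (2 : F) • (1 - z) := by
    rw [two_smul]
    calc (1 - z) * (1 - z) = 1 - z - z + z * z := by noncomm_ring
      _ = (1 - z) + (1 - z) := by rw [hzz]; abel
  have h3 : (1 + z) * (1 - z) = 0 := by
    calc (1 + z) * (1 - z) = 1 - z * z := by noncomm_ring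
      _ = 0 := by rw [hzz, sub_self]
  have h4 : (1 - z) * (1 + z) = 0 := by
    calc (1 - z) * (1 + z) = 1 - z * z := by noncomm_ring
      _ = 0 := by rw [hzz, sub_self]
  refine ⟨?_, ?_, ?_, ?_, ?_⟩
  · rw [Matrix.smul_mul, Matrix.mul_smul, h1, smul_smul, smul_smul, hcc]
  · rw [Matrix.smul_mul, Matrix.mul_smul, h2, smul_smul, smul_smul, hcc]
  · rw [Matrix.smul_mul, Matrix.mul_smul, h3, smul_zero, smul_zero]
  · rw [Matrix.smul_mul, Matrix.mul_smul, h4, smul_zero, smul_zero]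
  · rw [← smul_add]
    have h5 : (1 + z) + (1 - z) = (2 : F) • (1 : Matrix ι ι F) := by
      rw [two_smul]; abel
    rw [h5, smul_smul, hc, one_smul]

/-- Gluing `t` on the range of `e` with the identity on the range of `f` preserves `J`. -/
theorem glue_sp (e f t J : Matrix ι ι F) (he : e * e = e) (hf : f * f = f) (hef : e * f = 0)
    (hfe : f * e = 0) (hsum : e + f = 1) (het : e * t = t * e) (heJ : J * eᵀ = e * J)
    (hfJ : J * fᵀ = f * J) (ht : t * J * tᵀ = J) :
    (t * e + f) * J * (t * e + f)ᵀ = J := by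
  rw [transpose_add, transpose_mul]
  have h1 : t * e * J * (eᵀ * tᵀ) = e * J := by
    calc t * e * J * (eᵀ * tᵀ) = t * e * (J * eᵀ) * tᵀ := by simp only [mul_assoc]
      _ = t * (e * e) * J * tᵀ := by rw [heJ]; simp only [mul_assoc]
      _ = e * (t * J * tᵀ) := by rw [he, ← het]; simp only [mul_assoc]
      _ = e * J := by rw [ht]
  have h2 : t * e * J * fᵀ = 0 := by
    calc t * e * J * fᵀ = t * e * (J * fᵀ) := by simp only [mul_assoc]
      _ = t * (e * f) * J := by rw [hfJ]; simp only [mul_assoc]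
      _ = 0 := by rw [hef, mul_zero, zero_mul]
  have h3 : f * J * (eᵀ * tᵀ) = 0 := by
    calc f * J * (eᵀ * tᵀ) = f * (J * eᵀ) * tᵀ := by simp only [mul_assoc]
      _ = (f * e) * J * tᵀ := by rw [heJ]; simp only [mul_assoc]
      _ = 0 := by rw [hfe, zero_mul, zero_mul]
  have h4 : f * J * fᵀ = f * J := by
    calc f * J * fᵀ = f * (J * fᵀ) := by simp only [mul_assoc]
      _ = (f * f) * J := by rw [hfJ]; simp only [mul_assoc]
      _ = f * J := by rw [hf]
  calc (t * e + f) * J * (eᵀ * tᵀ + fᵀ)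
      = t * e * J * (eᵀ * tᵀ) + t * e * J * fᵀ + f * J * (eᵀ * tᵀ) + f * J * fᵀ := by
        noncomm_ring
    _ = (e + f) * J := by rw [h1, h2, h3, h4, add_zero, add_zero, add_mul]
    _ = J := by rw [hsum, one_mul]

/-- Powers of the glued matrix. -/
theorem glue_pow (e f t : Matrix ι ι F) (he : e * e = e) (hf : f * f = f) (hef : e * f = 0)
    (hfe : f * e = 0) (hsum : e + f = 1) (het : e * t = t * e) (hft : f * t = t * f) (j : ℕ) :
    (t * e + f) ^ j = t ^ j * e + f := by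
  induction j with
  | zero =>
    rw [pow_zero, pow_zero, one_mul, hsum]
  | succ j ih =>
    rw [pow_succ, ih]
    have h1 : t ^ j * e * (t * e) = t ^ (j + 1) * e := by
      calc t ^ j * e * (t * e) = t ^ j * (e * t) * e := by simp only [mul_assoc]
        _ = t ^ j * t * (e * e) := by rw [het]; simp only [mul_assoc]
        _ = t ^ (j + 1) * e := by rw [he, pow_succ]
    have h2 : t ^ j * e * f = 0 := by rw [mul_assoc, hef, mul_zero]
    have h3 : f * (t * e) = 0 := by rw [← mul_assoc, hft, mul_assoc, hfe, mul_zero]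
    calc (t ^ j * e + f) * (t * e + f)
        = t ^ j * e * (t * e) + t ^ j * e * f + f * (t * e) + f * f := by noncomm_ring
      _ = t ^ (j + 1) * e + f := by rw [h1, h2, h3, hf, add_zero, add_zero]

end algebra

section main

variable {F : Type u} [Field F] [Fintype F]

/-- A symplectic matrix `T ≠ 1` with `T ^ s = 1` fixing a non-zero matrix `g` (`T * g = g`)
forces `η(k) ≤ n - 1`. -/
theorem bound_of_fixed (p : ℕ) [Fact p.Prime] [CharP F p] (n s k ηk : ℕ) (hs : s.Prime)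
    (hs2 : s ≠ 2) (hsp : s ≠ p) (hk : k = orderOf ((Fintype.card F : ℕ) : ZMod s))
    (hη : Eta k ηk) (T g : Matrix (Fin n ⊕ Fin n) (Fin n ⊕ Fin n) F)
    (hTJ : T * Matrix.J (Fin n) F * Tᵀ = Matrix.J (Fin n) F) (hTs : T ^ s = 1) (hT1 : T ≠ 1)
    (hg : g ≠ 0) (hTg : T * g = g) : ηk ≤ n - 1 := by
  classical
  obtain ⟨S, dg, hS, hSne, hsF, hk0, hdg, hdd, hfix⟩ := exists_sp_data p s k hs hs2 hsp hk
  have hcard : Fintype.card (Fin n ⊕ Fin n) = 2 * n := by
    rw [Fintype.card_sum, Fintype.card_fin]; omega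
  obtain ⟨a₀, ha₀, hχ⟩ := charpoly_eq_chi' hS T hTs (2 * n) hcard
  have ha₀0 : a₀ ≠ 0 := by
    rintro rfl
    apply hT1
    apply eq_one_of_charpoly' T s hsF hTs (2 * n) hcard
    rw [hχ]
    simp [chi]
  obtain ⟨B, hB⟩ : ∃ B : Matrix.symplecticGroup (Fin n) F, B.1 = T :=
    ⟨⟨T, SymplecticGroup.mem_iff.mpr hTJ⟩, rfl⟩
  have hinv : ∀ π, a₀ (dg π) = a₀ π := by
    have h1 := dual_charpoly_sp B
    rw [hB, hχ, dual_chi (RingHom.id F) dg hdd hdg] at h1
    have h2 := chi_inj hS _ _ _ _ h1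
    intro π
    exact congrFun h2 π
  have hev : T.charpoly.eval 1 = 0 := by
    rw [Matrix.eval_charpoly]
    by_contra hdet
    have hu : IsUnit (Matrix.scalar (Fin n ⊕ Fin n) (1 : F) - T).det :=
      isUnit_iff_ne_zero.mpr hdet
    have h1 : (Matrix.scalar (Fin n ⊕ Fin n) (1 : F) - T) * g = 0 := by
      rw [map_one, sub_mul, one_mul, hTg, sub_self]
    have h2 : g = (Matrix.scalar (Fin n ⊕ Fin n) (1 : F) - T)⁻¹ *
        ((Matrix.scalar (Fin n ⊕ Fin n) (1 : F) - T) * g) := by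
      rw [← mul_assoc, Matrix.nonsing_inv_mul _ hu, one_mul]
    rw [h1, mul_zero] at h2
    exact hg h2
  have he1 : 1 ≤ 2 * n - k * ∑ π, a₀ π := by
    by_contra hcon
    have h0 : 2 * n - k * ∑ π, a₀ π = 0 := by omega
    rw [hχ, h0] at hev
    unfold chi at hev
    rw [pow_zero, one_mul, eval_prod] at hev
    have h1 : ∏ π : S, eval 1 (π.1 ^ a₀ π) ≠ 0 := by
      apply Finset.prod_ne_zero_iff.mpr
      intro π _
      rw [eval_pow]
      exact pow_ne_zero _ (eval_one_ne hS π.1 π.2)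
    exact h1 hev
  obtain ⟨π₀, hπ₀⟩ : ∃ π₀, a₀ π₀ ≠ 0 := by
    by_contra hcon
    push_neg at hcon
    exact ha₀0 (funext hcon)
  rcases hη with ⟨hodd, hη⟩ | ⟨heven, hη⟩
  · have hne : ∀ π : S, dg π ≠ π :=
      fun π h => (Nat.not_even_iff_odd.mpr hodd) ((hfix π).mp h)
    have hev2 : Even (∑ π, a₀ π) := by
      rw [← ZMod.natCast_eq_zero_iff_even, Nat.cast_sum]
      apply Finset.sum_involution (fun π _ => dg π)
      · intro π _
        rw [hinv]
        exact CharTwo.add_self_eq_zero _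
      · intro π _ _
        exact hne π
      · intro π _
        exact Finset.mem_univ _
      · intro π _
        exact hdd π
    have h1 : a₀ π₀ + a₀ (dg π₀) ≤ ∑ π, a₀ π := by
      rw [← Finset.sum_pair (hne π₀).symm]
      exact Finset.sum_le_sum_of_subset (Finset.subset_univ _)
    rw [hinv] at h1
    obtain ⟨c, hc⟩ := hev2
    have h3 : k * ∑ π, a₀ π = 2 * (k * c) := by rw [hc]; ring
    have hc1 : 1 ≤ c := by omega
    have h4 : k ≤ k * c := Nat.le_mul_of_pos_right k hc1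
    omega
  · have h1 : a₀ π₀ ≤ ∑ π, a₀ π :=
      Finset.single_le_sum (fun _ _ => Nat.zero_le _) (Finset.mem_univ π₀)
    have h3 : k * ∑ π, a₀ π = 2 * (ηk * ∑ π, a₀ π) := by rw [← hη]; ring
    have h4 : ηk ≤ ηk * ∑ π, a₀ π := Nat.le_mul_of_pos_right ηk (by omega)
    omega

/-- [SPINVNEC] -/
theorem pkgSpInvNec : PkgSpInvNec.{u} := by
  intro F _ _ hodd p _ _ n s k ηk hs hs2 hsp hk hη S hS2s hS2 hSs
  classical
  have h2 : (2 : F) ≠ 0 := by
    apply Ring.two_ne_zero
    intro h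
    rw [FiniteField.even_card_iff_char_two] at h
    rw [Nat.odd_iff] at hodd
    omega
  obtain ⟨c, hc⟩ : ∃ c : F, c * 2 = 1 := ⟨2⁻¹, inv_mul_cancel₀ h2⟩
  obtain ⟨M, hM⟩ : ∃ M : Matrix (Fin n ⊕ Fin n) (Fin n ⊕ Fin n) F, M = S.1 := ⟨_, rfl⟩
  rw [← hM] at hS2s hS2 hSs
  obtain ⟨z, hz⟩ : ∃ z, z = M ^ s := ⟨_, rfl⟩
  obtain ⟨t, ht⟩ : ∃ t, t = M ^ (s + 1) := ⟨_, rfl⟩
  have hzz : z * z = 1 := by rw [hz, ← pow_add, ← two_mul, hS2s]
  have hz1 : z ≠ 1 := fun h => hSs (Or.inl (hz ▸ h))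
  have hzm1 : z ≠ -1 := fun h => hSs (Or.inr (hz ▸ h))
  have hzt : z * t = t * z := by rw [hz, ht, ← pow_add, ← pow_add, add_comm]
  have hts : t ^ s = 1 := by
    obtain ⟨m, hm⟩ := hs.odd_of_ne_two hs2
    rw [ht, ← pow_mul]
    have h1 : (s + 1) * s = 2 * s * (m + 1) := by rw [hm]; ring
    rw [h1, pow_mul, hS2s, one_pow]
  have ht1 : t ≠ 1 := by
    intro h
    apply hS2
    left
    have h1 : M * z = 1 := by rw [hz, ← pow_succ', ← ht]; exact h
    have h3 : M = z := by
      calc M = M * (z * z) := by rw [hzz, mul_one]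
        _ = (M * z) * z := by rw [mul_assoc]
        _ = z := by rw [h1, one_mul]
    rw [pow_two, ← hzz, ← h3]
  have hzJ : z * Matrix.J (Fin n) F * zᵀ = Matrix.J (Fin n) F := by
    have h1 := (S ^ s).2
    rw [SymplecticGroup.mem_iff, SubmonoidClass.coe_pow, ← hM, ← hz] at h1
    exact h1
  have htJ : t * Matrix.J (Fin n) F * tᵀ = Matrix.J (Fin n) F := by
    have h1 := (S ^ (s + 1)).2
    rw [SymplecticGroup.mem_iff, SubmonoidClass.coe_pow, ← hM, ← ht] at h1
    exact h1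
  have hJz : Matrix.J (Fin n) F * zᵀ = z * Matrix.J (Fin n) F := by
    calc Matrix.J (Fin n) F * zᵀ = (z * z) * Matrix.J (Fin n) F * zᵀ := by rw [hzz, one_mul]
      _ = z * (z * Matrix.J (Fin n) F * zᵀ) := by simp only [mul_assoc]
      _ = z * Matrix.J (Fin n) F := by rw [hzJ]
  obtain ⟨he, hf, hef, hfe, hsum⟩ := idem_of_invol z hzz c hc
  obtain ⟨e, he_def⟩ : ∃ e, e = c • (1 + z) := ⟨_, rfl⟩
  obtain ⟨f, hf_def⟩ : ∃ f, f = c • (1 - z) := ⟨_, rfl⟩
  rw [← he_def] at he hef hfe hsum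
  rw [← hf_def] at hf hef hfe hsum
  have het : e * t = t * e := by
    rw [he_def, Matrix.smul_mul, Matrix.mul_smul, add_mul, mul_add, one_mul, mul_one, hzt]
  have hft : f * t = t * f := by
    rw [hf_def, Matrix.smul_mul, Matrix.mul_smul, sub_mul, mul_sub, one_mul, mul_one, hzt]
  have heJ : Matrix.J (Fin n) F * eᵀ = e * Matrix.J (Fin n) F := by
    rw [he_def, transpose_smul, transpose_add, transpose_one, Matrix.mul_smul, Matrix.smul_mul,
      mul_add, add_mul, mul_one, one_mul, hJz]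
  have hfJ : Matrix.J (Fin n) F * fᵀ = f * Matrix.J (Fin n) F := by
    rw [hf_def, transpose_smul, transpose_sub, transpose_one, Matrix.mul_smul, Matrix.smul_mul,
      mul_sub, sub_mul, mul_one, one_mul, hJz]
  have he0 : e ≠ 0 := by
    intro h
    apply hzm1
    rw [he_def] at h
    have h1 := congrArg (fun X : Matrix (Fin n ⊕ Fin n) (Fin n ⊕ Fin n) F => (2 : F) • X) h
    simp only [smul_smul, smul_zero] at h1
    rw [mul_comm, hc, one_smul] at h1
    exact eq_neg_of_add_eq_zero_right h1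
  have hf0 : f ≠ 0 := by
    intro h
    apply hz1
    rw [hf_def] at h
    have h1 := congrArg (fun X : Matrix (Fin n ⊕ Fin n) (Fin n ⊕ Fin n) F => (2 : F) • X) h
    simp only [smul_smul, smul_zero] at h1
    rw [mul_comm, hc, one_smul] at h1
    exact (sub_eq_zero.mp h1).symm
  have hP : (t * e + f) * (t * f + e) = t := by
    have a1 : t * e * (t * f) = 0 := by
      calc t * e * (t * f) = t * (e * t) * f := by simp only [mul_assoc]
        _ = t * t * (e * f) := by rw [het]; simp only [mul_assoc]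
        _ = 0 := by rw [hef, mul_zero]
    have a2 : t * e * e = t * e := by rw [mul_assoc, he]
    have a3 : f * (t * f) = t * f := by rw [← mul_assoc, hft, mul_assoc, hf]
    calc (t * e + f) * (t * f + e) = t * e * (t * f) + t * e * e + f * (t * f) + f * e := by
          noncomm_ring
      _ = t * (e + f) := by rw [a1, a2, a3, hfe, zero_add, add_zero, mul_add]
      _ = t := by rw [hsum, mul_one]
  have hsum' : f + e = 1 := by rw [add_comm]; exact hsum
  have hTpJ := glue_sp e f t (Matrix.J (Fin n) F) he hf hef hfe hsum het heJ hfJ htJ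
  have hTmJ := glue_sp f e t (Matrix.J (Fin n) F) hf he hfe hef hsum' hft hfJ heJ htJ
  have hTps : (t * e + f) ^ s = 1 := by
    rw [glue_pow e f t he hf hef hfe hsum het hft, hts, one_mul, hsum]
  have hTms : (t * f + e) ^ s = 1 := by
    rw [glue_pow f e t hf he hfe hef hsum' hft het, hts, one_mul, hsum']
  have hTpf : (t * e + f) * f = f := by rw [add_mul, mul_assoc, hef, mul_zero, zero_add, hf]
  have hTme : (t * f + e) * e = e := by rw [add_mul, mul_assoc, hfe, mul_zero, zero_add, he]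
  by_cases h1 : t * e + f = 1
  · have h3 : t * f + e ≠ 1 := by
      intro h
      apply ht1
      rw [← hP, h1, h, one_mul]
    exact bound_of_fixed p n s k ηk hs hs2 hsp hk hη _ e hTmJ hTms h3 he0 hTme
  · exact bound_of_fixed p n s k ηk hs hs2 hsp hk hη _ f hTpJ hTps h1 hf0 hTpf

end main

end Cfsg.Agent.Lib.Helper11.PG
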